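import Mathlib

/-!
# The determinant of a skew-symmetric matrix is a square of a polynomial in the entries
-/

set_option autoImplicit false

namespace Groth.SkewDet

open Matrix

theorem isSquare_det_aux {K : Type*} [Field K] [NeZero (2 : K)] :
    ∀ (N : ℕ) (n : Type) [Fintype n] [DecidableEq n], Fintype.card n = N →
      ∀ M : Matrix n n K, Mᵀ = -M → IsSquare M.det := by
  intro N
  induction N using Nat.strong_induction_on with
  | _ N ih =>
    intro n _ _ hN M hM
    by_cases h0 : M = 0
    · subst h0
      cases isEmpty_or_nonempty n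
      · rw [det_isEmpty]; exact ⟨1, (mul_one 1).symm⟩
      · rw [det_zero]; exact ⟨0, (mul_zero 0).symm⟩
    · obtain ⟨a, b, hab⟩ : ∃ a b, M a b ≠ 0 := by
        by_contra h
        push Not at h
        exact h0 (Matrix.ext h)
      have hsk : ∀ i j, M j i = -M i j := fun i j => congrFun (congrFun hM i) j
      have hdiag : ∀ i, M i i = 0 := fun i => by
        have h2 : (2 : K) * M i i = 0 := by rw [two_mul]; exact eq_neg_iff_add_eq_zero.1 (hsk i i)
        exact (mul_eq_zero.1 h2).resolve_left (NeZero.ne _)
      have hne : a ≠ b := fun h => hab (h ▸ hdiag a)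
      let f : Fin 2 ⊕ {x : n // x ≠ a ∧ x ≠ b} → n := Sum.elim ![a, b] Subtype.val
      have hf : Function.Bijective f := by
        constructor
        · refine Function.Injective.sumElim ?_ Subtype.val_injective ?_
          · intro i j; fin_cases i <;> fin_cases j <;> simp [hne, hne.symm]
          · intro i x; fin_cases i <;> simp [x.2.1.symm, x.2.2.symm]
        · intro x
          by_cases ha : x = a
          · exact ⟨Sum.inl 0, by simp [f, ha]⟩
          by_cases hb : x = b
          · exact ⟨Sum.inl 1, by simp [f, hb]⟩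
          exact ⟨Sum.inr ⟨x, ha, hb⟩, rfl⟩
      let e := Equiv.ofBijective f hf
      let M' := M.submatrix e e
      have hM' : M'ᵀ = -M' := by ext i j; exact hsk _ _
      rw [← det_submatrix_equiv_self e M]
      change IsSquare M'.det
      let A := M'.toBlocks₁₁
      have hA : A.det = M a b ^ 2 := by
        rw [det_fin_two]
        show M (f (.inl 0)) (f (.inl 0)) * M (f (.inl 1)) (f (.inl 1)) -
          M (f (.inl 0)) (f (.inl 1)) * M (f (.inl 1)) (f (.inl 0)) = _
        simp only [f, Sum.elim_inl, Matrix.cons_val_zero, Matrix.cons_val_one, hdiag, hsk a b]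
        ring
      have hu : IsUnit A.det := by rw [hA]; exact isUnit_iff_ne_zero.2 (pow_ne_zero _ hab)
      letI := A.invertibleOfIsUnitDet hu
      rw [← fromBlocks_toBlocks M', det_fromBlocks₁₁]
      refine IsSquare.mul ⟨M a b, by rw [← sq]; exact hA⟩ (ih _ ?_ _ rfl _ ?_)
      · have := Fintype.card_congr e
        simp only [Fintype.card_sum, Fintype.card_fin] at this
        omega
      · have hD : M'.toBlocks₂₂ᵀ = -M'.toBlocks₂₂ := by ext i j; exact hsk _ _
        have hB : M'.toBlocks₁₂ᵀ = -M'.toBlocks₂₁ := by ext i j; exact hsk _ _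
        have hC : M'.toBlocks₂₁ᵀ = -M'.toBlocks₁₂ := by ext i j; exact hsk _ _
        have hAt : Aᵀ = -A := by ext i j; exact hsk _ _
        have hinv : (⅟A)ᵀ = -⅟A := by
          rw [invOf_eq_nonsing_inv, transpose_nonsing_inv, hAt]
          exact inv_eq_left_inv (by rw [neg_mul_neg, nonsing_inv_mul _ hu])
        rw [transpose_sub, transpose_mul, transpose_mul, hinv, hB, hC, hD]
        simp [Matrix.mul_assoc]
        abel

/-- Over a field of characteristic not two, the determinant of a skew-symmetric matrix is a square. -/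
theorem isSquare_det {K : Type*} [Field K] [NeZero (2 : K)] {n : Type} [Fintype n] [DecidableEq n]
    (M : Matrix n n K) (hM : Mᵀ = -M) : IsSquare M.det :=
  isSquare_det_aux _ n rfl M hM

/-- The determinant of skew-symmetric matrices is the square of one polynomial in the entries. -/
theorem exists_pfaffian (F : Type) [Field F] [CharZero F] (n : Type) [Fintype n] [DecidableEq n] :
    ∃ Q : MvPolynomial (n × n) F, ∀ (S : Type) [CommRing S] [Algebra F S] (A : Matrix n n S), Aᵀ = -A →
      A.det = MvPolynomial.aeval (fun ij => (2⁻¹ : F) • A ij.1 ij.2) Q ^ 2 := by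
  let G : Matrix n n (MvPolynomial (n × n) F) := fun i j => MvPolynomial.X (i, j) - MvPolynomial.X (j, i)
  let K := FractionRing (MvPolynomial (n × n) F)
  let φ := algebraMap (MvPolynomial (n × n) F) K
  haveI : NeZero (2 : K) := ⟨fun h => by
    have h' : φ 2 = φ 0 := by rw [map_ofNat, map_zero]; exact h
    exact two_ne_zero (IsFractionRing.injective (MvPolynomial (n × n) F) K h')⟩
  obtain ⟨y, hy⟩ := isSquare_det (φ.mapMatrix G) (by ext i j; simp [G])
  rw [← RingHom.map_det, ← sq] at hy
  obtain ⟨z, rfl⟩ := IsIntegrallyClosed.algebraMap_eq_of_integral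
    (R := MvPolynomial (n × n) F) (x := y) (IsIntegral.of_pow two_pos (hy ▸ isIntegral_algebraMap))
  rw [← map_pow] at hy
  refine ⟨z, fun S _ _ A hA => ?_⟩
  let ev := MvPolynomial.aeval (R := F) (fun ij : n × n => (2⁻¹ : F) • A ij.1 ij.2)
  have hev : ev.toRingHom.mapMatrix G = A := by
    ext i j
    have h : A j i = -A i j := congrFun (congrFun hA i) j
    show ev (MvPolynomial.X (i, j) - MvPolynomial.X (j, i)) = A i j
    rw [map_sub, MvPolynomial.aeval_X, MvPolynomial.aeval_X, h, smul_neg, sub_neg_eq_add, ← add_smul]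
    norm_num
  rw [← hev, ← RingHom.map_det, IsFractionRing.injective (MvPolynomial (n × n) F) K hy, map_pow]
  rw [hev]
  rfl

end Groth.SkewDet

namespace Groth.SkewDet

open Matrix

variable {F : Type} [Field F] {n : Type} [Fintype n] [DecidableEq n]

/-- The square root of the determinant of a matrix symmetric for `J`. -/
noncomputable def pfRoot (Q : MvPolynomial (n × n) F) (J : Matrix n n F) (c : F) {S : Type} [CommRing S] [Algebra F S]
    (B : Matrix n n S) : S :=
  algebraMap F S c * MvPolynomial.aeval (fun ij : n × n => (2⁻¹ : F) • (J.map (algebraMap F S) * B) ij.1 ij.2) Q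

theorem map_pfRoot (Q : MvPolynomial (n × n) F) (J : Matrix n n F) (c : F) {S R : Type} [CommRing S] [Algebra F S]
    [CommRing R] [Algebra F R] (φ : S →ₐ[F] R) (B : Matrix n n S) :
    φ (pfRoot Q J c B) = pfRoot Q J c (φ.toRingHom.mapMatrix B) := by
  have h : φ.toRingHom.mapMatrix (J.map (algebraMap F S) * B) =
      J.map (algebraMap F R) * φ.toRingHom.mapMatrix B := by
    rw [map_mul]
    congr 1
    exact Matrix.ext fun i j => φ.commutes (J i j)
  unfold pfRoot
  rw [map_mul, AlgHom.commutes, ← AlgHom.comp_apply, MvPolynomial.comp_aeval]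
  congr 2
  refine MvPolynomial.algHom_ext fun ij => ?_
  rw [MvPolynomial.aeval_X, MvPolynomial.aeval_X, map_smul, ← h]
  rfl

/-- A matrix symmetric for a skew-symmetric `J` with `J² = -1` has square determinant. -/
theorem det_eq_pfRoot_sq (Q : MvPolynomial (n × n) F)
    (hQ : ∀ (S : Type) [CommRing S] [Algebra F S] (A : Matrix n n S), Aᵀ = -A →
      A.det = MvPolynomial.aeval (fun ij => (2⁻¹ : F) • A ij.1 ij.2) Q ^ 2)
    (J : Matrix n n F) (hJt : Jᵀ = -J) (hJJ : J * J = -1) (c : F) (hc : (-J).det = c ^ 2)
    {R : Type} [CommRing R] [Algebra F R] (B : Matrix n n R)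
    (hB : Bᵀ * J.map (algebraMap F R) = J.map (algebraMap F R) * B) :
    B.det = pfRoot Q J c B ^ 2 := by
  have hJR : (J.map (algebraMap F R))ᵀ = -J.map (algebraMap F R) := by
    rw [← transpose_map, hJt]
    exact Matrix.ext fun i j => map_neg (algebraMap F R) (J i j)
  have hskew : (J.map (algebraMap F R) * B)ᵀ = -(J.map (algebraMap F R) * B) := by
    rw [transpose_mul, hJR, Matrix.mul_neg, hB]
  unfold pfRoot
  rw [mul_pow, ← hQ R _ hskew, ← map_pow, ← hc, RingHom.map_det, ← det_mul, RingHom.mapMatrix_apply,
    ← mul_assoc, ← Matrix.map_mul, neg_mul, hJJ, neg_neg, Matrix.map_one _ (map_zero _) (map_one _), one_mul]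

end Groth.SkewDet
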